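import Cfsg.Agent.OddOrderCharacters.IndRes
import Cfsg.Agent.Characters.CCBasic
import Cfsg.Agent.CharDeep.CliffordCorr
import Cfsg.Agent.Blocks.Basic

/-!
# Characters induced from an abelian normal subgroup (S4577, helper885)

`A` is an abelian subgroup of the finite group `C`, `θ` an irreducible character of `C` of degree at least `|C : A|`.

* `exists_lin` : `θ` is induced from a linear character of `A`;
* `exists_fix` : if `A` is normal, `|C : A|` is a power of 2 and `α` is an automorphism of `C` of 5-power order which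
  fixes `A` and `θ`, then `θ` is induced from a linear character of `A` which is fixed by `α`.
* `ind_comp` : automorphisms fixing `A` and the linear character fix the induced character.
-/

set_option autoImplicit false
set_option linter.unusedSectionVars false

open Cfsg
open scoped ComplexConjugate

namespace Cfsg.Agent.H885.KS

open Cfsg.Agent.Characters.Core

/-- A character with a constituent of at least the same degree. -/
theorem eq_of_degree_le {D : Type*} [Group D] [Fintype D] {χ : D → ℂ} (hχ : IsCharacter D χ)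
    {ψ : D → ℂ} (hψ : IsIrrCharacter D ψ) (hc : classInner χ ψ ≠ 0) {a b : ℕ} (ha : χ 1 = a) (hb : ψ 1 = b)
    (hab : a ≤ b) : χ = ψ := by
  classical
  have := finite_irr (G := D)
  let _ : Fintype (IrrCharacter D) := Fintype.ofFinite _
  obtain ⟨m, hm, hm'⟩ := CharDeep.CliffordCorr.exists_nat_coeffs hχ
  have hdegs : ∀ φ : IrrCharacter D, ∃ n : ℕ, 0 < n ∧ (φ : D → ℂ) 1 = n := fun φ =>
    isIrr_apply_one φ.2
  choose d hd0 hd using hdegs
  have hmψ : 1 ≤ m ⟨ψ, hψ⟩ := by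
    refine Nat.one_le_iff_ne_zero.2 fun h0 => hc ?_
    rw [hm' ⟨ψ, hψ⟩, h0, Nat.cast_zero]
  have hdb : d ⟨ψ, hψ⟩ = b := by
    have := hd ⟨ψ, hψ⟩
    have h2 : ((d ⟨ψ, hψ⟩ : ℕ) : ℂ) = b := by rw [← this, ← hb]
    exact_mod_cast h2
  have hsum : ∑ φ : IrrCharacter D, m φ * d φ = a := by
    have h2 : ((∑ φ : IrrCharacter D, m φ * d φ : ℕ) : ℂ) = a := by
      rw [← ha, hm, Finset.sum_apply]
      push_cast
      refine Finset.sum_congr rfl fun φ _ => ?_
      rw [Pi.smul_apply, smul_eq_mul, hd]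
    exact_mod_cast h2
  rw [← Finset.add_sum_erase _ _ (Finset.mem_univ (⟨ψ, hψ⟩ : IrrCharacter D))] at hsum
  have h3 : d ⟨ψ, hψ⟩ ≤ m ⟨ψ, hψ⟩ * d ⟨ψ, hψ⟩ := Nat.le_mul_of_pos_left _ hmψ
  have h4 : ∑ φ ∈ Finset.univ.erase (⟨ψ, hψ⟩ : IrrCharacter D), m φ * d φ = 0 := by omega
  have h5 : m ⟨ψ, hψ⟩ = 1 := by
    have h6 : m ⟨ψ, hψ⟩ * d ⟨ψ, hψ⟩ = 1 * d ⟨ψ, hψ⟩ := by omega
    exact Nat.eq_of_mul_eq_mul_right (hd0 _) h6
  have h7 : ∀ φ ∈ Finset.univ.erase (⟨ψ, hψ⟩ : IrrCharacter D), m φ = 0 := by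
    intro φ hφ
    have h8 := (Finset.sum_eq_zero_iff.1 h4) φ hφ
    rcases Nat.mul_eq_zero.1 h8 with h9 | h9
    · exact h9
    · exact absurd h9 (hd0 φ).ne'
  rw [hm, ← Finset.add_sum_erase _ _ (Finset.mem_univ (⟨ψ, hψ⟩ : IrrCharacter D)), h5, Nat.cast_one, one_smul,
    Finset.sum_eq_zero fun φ hφ => by rw [h7 φ hφ, Nat.cast_zero, zero_smul], add_zero]

section Lin

variable {C : Type*} [Group C] [Fintype C] (A : Subgroup C)

/-- the induced character of a linear character -/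
noncomputable def indL (lam : ↥A →* ℂˣ) : C → ℂ := indFun A (fun a => (lam a : ℂ))

/-- **`θ` is induced from a linear character** -/
theorem exists_lin (hA : ∀ a ∈ A, ∀ b ∈ A, a * b = b * a) (θ : IrrCharacter C)
    (hdeg : A.index ≤ charDegree (θ : C → ℂ)) : ∃ lam : ↥A →* ℂˣ, indL A lam = (θ : C → ℂ) := by
  classical
  have hc : ∀ a b : ↥A, a * b = b * a := fun a b => Subtype.ext (hA a a.2 b b.2)
  -- a constituent of the restriction
  have hres : IsCharacter ↥A (fun n : A => (θ : C → ℂ) n) := isCharacter_comp A.subtype (isIrr_isCharacter θ.2)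
  obtain ⟨ψ, hψ, hne⟩ : ∃ ψ : ↥A → ℂ, IsIrrCharacter ↥A ψ ∧ classInner (fun n : A => (θ : C → ℂ) n) ψ ≠ 0 := by
    by_contra hcon
    push Not at hcon
    have h1 := classFunction_eq_zero (G := ↥A) (f := fun n : A => (θ : C → ℂ) n)
      (isCharacter_isClassFunction hres) hcon
    have h2 := congrFun h1 1
    obtain ⟨m, hm, h3⟩ := isIrr_apply_one θ.2
    simp only [OneMemClass.coe_one, Pi.zero_apply] at h2
    rw [h3] at h2
    exact hm.ne' (by exact_mod_cast h2)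
  obtain ⟨lam, rfl⟩ := Characters.CCBasic.exists_hom_of_comm hc hψ
  refine ⟨lam, ?_⟩
  have hch : IsCharacter ↥A (fun a => (lam a : ℂ)) := Characters.Linear.isCharacter_hom lam
  have h1 : classInner (indFun A (fun a => (lam a : ℂ))) (θ : C → ℂ) ≠ 0 := by
    rw [OddOrderCharacters.IndRes.classInner_res_symm A hch (isIrr_isCharacter θ.2)]
    exact hne
  refine eq_of_degree_le (OddOrderCharacters.IndRes.isCharacter_indFun A hch) θ.2 h1 (a := A.index)
    (b := charDegree (θ : C → ℂ)) ?_ (Blocks.Basic.irr_one_eq_charDegree θ.2) hdeg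
  rw [OddOrderCharacters.IndRes.indFun_apply_one, map_one, Units.val_one, mul_one]

variable {A}

theorem indL_apply (lam : ↥A →* ℂˣ) (c : C) :
    indL A lam c = (Nat.card A : ℂ)⁻¹ * ∑ x : C, extendByZero A (fun a => (lam a : ℂ)) (x⁻¹ * c * x) := rfl

theorem ext_mem (f : ↥A → ℂ) {x : C} (hx : x ∈ A) : extendByZero A f x = f ⟨x, hx⟩ := by
  unfold extendByZero
  exact Subtype.val_injective.extend_apply f 0 ⟨x, hx⟩

theorem ext_not_mem (f : ↥A → ℂ) {x : C} (hx : x ∉ A) : extendByZero A f x = 0 := by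
  unfold extendByZero
  rw [Function.extend_apply' _ _ _ (fun ⟨a, ha⟩ => hx (ha ▸ a.2))]
  rfl

/-- **automorphisms fixing `A` and the linear character fix the induced character** -/
theorem ind_comp (lam : ↥A →* ℂˣ) (β : MulAut C) (hβ : ∀ a, β a ∈ A ↔ a ∈ A)
    (hl : ∀ (a : C) (ha : a ∈ A), lam ⟨β a, (hβ a).2 ha⟩ = lam ⟨a, ha⟩) (c : C) :
    indL A lam (β c) = indL A lam c := by
  rw [indL_apply, indL_apply]
  congr 1
  refine (Fintype.sum_equiv β.toEquiv _ _ fun x => ?_).symm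
  have e : (β.toEquiv x)⁻¹ * β c * β.toEquiv x = β (x⁻¹ * c * x) := by
    show (β x)⁻¹ * β c * β x = _
    rw [map_mul, map_mul, map_inv]
  rw [e]
  by_cases h : x⁻¹ * c * x ∈ A
  · rw [ext_mem _ h, ext_mem _ ((hβ _).2 h), hl _ h]
  · rw [ext_not_mem _ h, ext_not_mem _ fun h' => h ((hβ _).1 h')]

variable [hN : A.Normal]

/-- the conjugate of a linear character -/
def cjl (c : C) (μ : ↥A →* ℂˣ) : ↥A →* ℂˣ := μ.comp ((MulAut.conjNormal c⁻¹ : MulAut A) : ↥A →* ↥A)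

theorem cjl_apply (c : C) (μ : ↥A →* ℂˣ) (a : ↥A) :
    cjl c μ a = μ ⟨c⁻¹ * a * c, by simpa using hN.conj_mem a a.2 c⁻¹⟩ := by
  show μ _ = μ _
  congr 1
  apply Subtype.ext
  show ((MulAut.conjNormal c⁻¹ : MulAut A) a : C) = c⁻¹ * (a : C) * c
  rw [MulAut.conjNormal_apply, inv_inv]

/-- the action on the linear characters -/
@[reducible] def actL : MulAction C (↥A →* ℂˣ) where
  smul c μ := cjl c μ
  one_smul μ := by
    show cjl 1 μ = μ
    unfold cjl
    rw [inv_one, map_one]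
    rfl
  mul_smul c d μ := by
    show cjl (c * d) μ = cjl c (cjl d μ)
    unfold cjl
    rw [mul_inv_rev, map_mul]
    rfl

theorem sum_hom {B : Type*} [Group B] [Fintype B] [DecidableEq (B →* ℂˣ)] (μ ν : B →* ℂˣ) :
    ∑ b : B, ((ν b : ℂˣ) : ℂ) * ((μ b : ℂˣ) : ℂ)⁻¹ = if ν = μ then (Nat.card B : ℂ) else 0 := by
  split_ifs with h
  · subst h
    rw [Finset.sum_congr rfl fun b _ => mul_inv_cancel₀ (ν b).ne_zero, Finset.sum_const, Finset.card_univ,
      nsmul_eq_mul, mul_one, Nat.card_eq_fintype_card]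
  · obtain ⟨b0, hb0⟩ : ∃ b, ν b ≠ μ b := by
      by_contra hcon
      push Not at hcon
      exact h (MonoidHom.ext hcon)
    set S := ∑ b : B, ((ν b : ℂˣ) : ℂ) * ((μ b : ℂˣ) : ℂ)⁻¹ with hS
    have h1 : ((ν b0 : ℂˣ) : ℂ) * ((μ b0 : ℂˣ) : ℂ)⁻¹ * S = S := by
      rw [hS, Finset.mul_sum]
      refine Fintype.sum_equiv (Equiv.mulLeft b0) _ _ fun b => ?_
      rw [Equiv.coe_mulLeft, map_mul, map_mul, Units.val_mul, Units.val_mul, mul_inv]
      ring
    have h2 : (((ν b0 : ℂˣ) : ℂ) * ((μ b0 : ℂˣ) : ℂ)⁻¹ - 1) * S = 0 := by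
      rw [sub_mul, h1, one_mul, sub_self]
    rcases mul_eq_zero.1 h2 with h3 | h3
    · exfalso
      apply hb0
      apply Units.ext
      have h4 := sub_eq_zero.1 h3
      rw [← div_eq_mul_inv, div_eq_one_iff_eq (μ b0).ne_zero] at h4
      exact h4
    · exact h3

/-- the restriction of the induced character -/
theorem indL_res (lam : ↥A →* ℂˣ) (a : ↥A) :
    indL A lam (a : C) = (Nat.card A : ℂ)⁻¹ * ∑ x : C, ((cjl x lam a : ℂˣ) : ℂ) := by
  rw [indL_apply]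
  congr 1
  refine Finset.sum_congr rfl fun x _ => ?_
  have h : x⁻¹ * (a : C) * x ∈ A := by simpa using hN.conj_mem a a.2 x⁻¹
  rw [ext_mem _ h, cjl_apply]

/-- the constituents of the restriction -/
theorem constituent_iff [Fintype ↥A] (lam μ : ↥A →* ℂˣ) :
    ∑ a : ↥A, indL A lam (a : C) * ((μ a : ℂˣ) : ℂ)⁻¹ ≠ 0 ↔ ∃ x : C, cjl x lam = μ := by
  classical
  have h1 : ∑ a : ↥A, indL A lam (a : C) * ((μ a : ℂˣ) : ℂ)⁻¹ =
      ((Finset.univ.filter fun x : C => cjl x lam = μ).card : ℂ) := by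
    have h2 : ∀ a : ↥A, indL A lam (a : C) * ((μ a : ℂˣ) : ℂ)⁻¹ =
        (Nat.card A : ℂ)⁻¹ * ∑ x : C, ((cjl x lam a : ℂˣ) : ℂ) * ((μ a : ℂˣ) : ℂ)⁻¹ := by
      intro a
      rw [indL_res, mul_assoc, Finset.sum_mul]
    have hA0 : (Nat.card A : ℂ) ≠ 0 := by
      exact_mod_cast (Nat.card_pos (α := ↥A)).ne'
    rw [Finset.sum_congr rfl fun a _ => h2 a, ← Finset.mul_sum, Finset.sum_comm,
      Finset.sum_congr rfl fun x _ => sum_hom μ (cjl x lam), ← Finset.sum_filter, Finset.sum_const, nsmul_eq_mul,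
      mul_comm, mul_assoc, mul_inv_cancel₀ hA0, mul_one]
  rw [h1, Nat.cast_ne_zero, Finset.card_ne_zero]
  constructor
  · rintro ⟨x, hx⟩
    exact ⟨x, (Finset.mem_filter.1 hx).2⟩
  · rintro ⟨x, hx⟩
    exact ⟨x, Finset.mem_filter.2 ⟨Finset.mem_univ _, hx⟩⟩

theorem indL_cjl (x : C) (lam : ↥A →* ℂˣ) : indL A (cjl x lam) = indL A lam := by
  funext c
  rw [indL_apply, indL_apply]
  congr 1
  refine Fintype.sum_equiv (Equiv.mulRight x) _ _ fun y => ?_
  rw [Equiv.coe_mulRight]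
  have e : (y * x)⁻¹ * c * (y * x) = x⁻¹ * (y⁻¹ * c * y) * x := by group
  rw [e]
  by_cases h : y⁻¹ * c * y ∈ A
  · have h' : x⁻¹ * (y⁻¹ * c * y) * x ∈ A := by simpa using hN.conj_mem _ h x⁻¹
    rw [ext_mem _ h, ext_mem _ h', cjl_apply]
  · rw [ext_not_mem _ h, ext_not_mem _ fun h' => h ?_]
    have := hN.conj_mem _ h' x
    have e2 : x * (x⁻¹ * (y⁻¹ * c * y) * x) * x⁻¹ = y⁻¹ * c * y := by group
    rwa [e2] at this

/-- **a fixed linear character** -/
theorem exists_fix (hA : ∀ a ∈ A, ∀ b ∈ A, a * b = b * a) (θ : IrrCharacter C)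
    (hdeg : A.index ≤ charDegree (θ : C → ℂ)) {j : ℕ} (hj : A.index = 2 ^ j) (α : MulAut C)
    (hα : ∀ a, α a ∈ A ↔ a ∈ A) {m : ℕ} (hm : ∀ a, (α ^ 5 ^ m) a = a)
    (hθ : ∀ c, (θ : C → ℂ) (α c) = (θ : C → ℂ) c) :
    ∃ lam : ↥A →* ℂˣ, indL A lam = (θ : C → ℂ) ∧ ∀ (a : C) (ha : a ∈ A), lam ⟨α a, (hα a).2 ha⟩ = lam ⟨a, ha⟩ := by
  classical
  have := Fintype.ofFinite ↥A
  obtain ⟨lam, hlam⟩ := exists_lin A hA θ hdeg
  let _ : MulAction C (↥A →* ℂˣ) := actL
  have hsm : ∀ (c : C) (μ : ↥A →* ℂˣ), c • μ = cjl c μ := fun _ _ => rfl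
  -- the restriction of `α`
  let αA : ↥A ≃* ↥A :=
    { toFun := fun a => ⟨α a, (hα a).2 a.2⟩
      invFun := fun a => ⟨α⁻¹ a, (hα _).1 (by rw [MulAut.apply_inv_self]; exact a.2)⟩
      left_inv := fun a => Subtype.ext (MulAut.inv_apply_self _ _ _)
      right_inv := fun a => Subtype.ext (MulAut.apply_inv_self _ _ _)
      map_mul' := fun a b => Subtype.ext (map_mul α (a : C) b) }
  have hαA : ∀ a : ↥A, ((αA a : ↥A) : C) = α a := fun _ => rfl
  -- the orbit
  have hΩ : ∀ μ : ↥A →* ℂˣ, μ ∈ MulAction.orbit C lam ↔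
      ∑ a : ↥A, (θ : C → ℂ) (a : C) * ((μ a : ℂˣ) : ℂ)⁻¹ ≠ 0 := by
    intro μ
    rw [← hlam, constituent_iff]
    rfl
  have hstab : ∀ μ : ↥A →* ℂˣ, μ ∈ MulAction.orbit C lam → μ.comp (αA : ↥A →* ↥A) ∈ MulAction.orbit C lam := by
    intro μ hμ
    rw [hΩ] at hμ ⊢
    convert hμ using 1
    refine Fintype.sum_equiv αA.toEquiv _ _ fun a => ?_
    show (θ : C → ℂ) (a : C) * ((μ (αA a) : ℂˣ) : ℂ)⁻¹ = (θ : C → ℂ) ((αA a : ↥A) : C) * ((μ (αA a) : ℂˣ) : ℂ)⁻¹
    rw [hαA, hθ]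
  let f : Function.End (MulAction.orbit C lam) := fun μ => ⟨μ.1.comp (αA : ↥A →* ↥A), hstab _ μ.2⟩
  have hf : ∀ (n : ℕ) (μ : MulAction.orbit C lam) (a : ↥A), ((f ^ n) μ).1 a = μ.1 ((αA ^ n : MulAut ↥A) a) := by
    intro n
    induction n with
    | zero => intro μ a; rfl
    | succ n ih =>
      intro μ a
      have e : (f ^ (n + 1)) μ = f ((f ^ n) μ) := by
        rw [pow_succ']
        rfl
      have e2 : ((αA ^ (n + 1) : MulAut ↥A)) a = (αA ^ n : MulAut ↥A) (αA a) := by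
        rw [pow_succ]
        rfl
      rw [e, e2]
      exact ih μ (αA a)
  have hpow : ∀ (n : ℕ) (a : ↥A), (((αA ^ n : MulAut ↥A) a : ↥A) : C) = (α ^ n) (a : C) := by
    intro n
    induction n with
    | zero => intro a; rfl
    | succ n ih =>
      intro a
      have e2 : ((αA ^ (n + 1) : MulAut ↥A)) a = (αA ^ n : MulAut ↥A) (αA a) := by
        rw [pow_succ]
        rfl
      rw [e2, ih, hαA, pow_succ]
      rfl
  have hf1 : f ^ 5 ^ m = 1 := by
    funext μ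
    apply Subtype.ext
    refine MonoidHom.ext fun a => ?_
    rw [hf]
    show μ.1 _ = μ.1 a
    congr 1
    apply Subtype.ext
    rw [hpow, hm]
  have h5 : Fact (Nat.Prime 5) := ⟨by norm_num⟩
  have hfin : Finite (↥A →* ℂˣ) := by
    have hc : ∀ a b : ↥A, a * b = b * a := fun a b => Subtype.ext (hA a a.2 b b.2)
    have := finite_irr (G := ↥A)
    exact Finite.of_injective (fun f : ↥A →* ℂˣ => (⟨fun a => (f a : ℂ), Characters.Linear.isIrrCharacter_hom f⟩ :
      IrrCharacter ↥A)) fun f g hfg => MonoidHom.ext fun a => Units.ext (congrFun (congrArg Subtype.val hfg) a)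
  have := Fintype.ofFinite (MulAction.orbit C lam)
  have hcard := Equiv.Perm.card_fixedPoints_modEq hf1
  -- the length of the orbit
  have hdvd : Fintype.card (MulAction.orbit C lam) ∣ 2 ^ j := by
    rw [← hj, ← Nat.card_eq_fintype_card, Nat.card_coe_set_eq, ← MulAction.index_stabilizer]
    refine Subgroup.index_dvd_of_le fun a ha => ?_
    rw [MulAction.mem_stabilizer_iff, hsm]
    refine MonoidHom.ext fun b => ?_
    rw [cjl_apply]
    congr 1
    apply Subtype.ext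
    show a⁻¹ * (b : C) * a = b
    rw [mul_assoc, hA b b.2 a ha, inv_mul_cancel_left]
  have hne : Nonempty (Function.fixedPoints f) := by
    by_contra hcon
    rw [not_nonempty_iff] at hcon
    have h1 : Fintype.card (Function.fixedPoints f) = 0 := Fintype.card_eq_zero
    have h2 : Fintype.card (MulAction.orbit C lam) ≡ 0 [MOD 5] := by
      refine hcard.trans ?_
      rw [h1]
    have h3 : 5 ∣ 2 ^ j := ((Nat.modEq_zero_iff_dvd).1 h2).trans hdvd
    have h4 := h5.out.dvd_of_dvd_pow h3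
    omega
  obtain ⟨⟨μ, ⟨x, hx⟩⟩, hμ⟩ := hne
  refine ⟨μ, ?_, fun a ha => ?_⟩
  · have hx' : cjl x lam = μ := hx
    rw [← hx', indL_cjl, hlam]
  · have h1 : (f ⟨μ, ⟨x, hx⟩⟩).1 ⟨a, ha⟩ = μ ⟨a, ha⟩ := by
      rw [show f ⟨μ, ⟨x, hx⟩⟩ = ⟨μ, ⟨x, hx⟩⟩ from hμ]
    exact h1

end Lin

end Cfsg.Agent.H885.KS
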